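import Cfsg.Agent.H505.S4536.DC.Indep
import Cfsg.Agent.H120.GLB.Tau

/-!
# Section DC of the plan S4536_std: final statements
-/

set_option autoImplicit false

open scoped ComplexConjugate

namespace Cfsg.Agent.H505.S4536.DC.Fin

open Cfsg.Agent.H577.GLB.Std
open MvPolynomial Cfsg.Agent.H614

section

variable {Q : ℤ} {M : ℕ} [NeZero M] {p : ℕ}

/-- `tau` of a Schur product is an integral combination of `tau` of the `p'`-labelled ones in the same family -/
theorem tau_mem_span (hp : p.Prime) (hQ : IsUnit (Q : ZMod M)) (_hQp : IsUnit (Q : ZMod p)) {m n : ℕ} (hmn : n ≤ m)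
    (t : LabZ Q M m n) :
    tauP Q M p (SchP Q M t.t) ∈ Submodule.span ℤ {x : RS M | ∃ t' : LabZ Q M m n,
      POnly M p t'.t ∧ SameFam Q M p t.t t'.t ∧ x = tauP Q M p (SchP Q M t'.t)} :=
  DC.tau_mem_span hp hQ hmn t

theorem tau_linearIndependent (hp : p.Prime) (hQ : IsUnit (Q : ZMod M)) (_hQp : IsUnit (Q : ZMod p)) {m n : ℕ}
    (_hmn : n ≤ m) :
    LinearIndependent ℂ (fun t : {t : LabZ Q M m n // POnly M p t.t} => tauP Q M p (SchP Q M t.1.t)) :=
  DC.tau_linearIndependent hp hQ m n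

theorem tau_ne_zero (hp : p.Prime) (hQ : IsUnit (Q : ZMod M)) {m n : ℕ} (_hmn : n ≤ m) (t : LabZ Q M m n) :
    tauP Q M p (SchP Q M t.t) ≠ 0 :=
  DC.tau_ne_zero hp hQ t

/-- (D2') every `tau`-closed nonempty set of labels contains a `p'`-label -/
theorem exists_pOnly (hp : p.Prime) (hQ : IsUnit (Q : ZMod M)) (_hQp : IsUnit (Q : ZMod p)) {m n : ℕ} (hmn : n ≤ m)
    (S : Set (LabZ Q M m n)) (hS : S.Nonempty)
    (hcl : ∀ t ∈ S, ∀ t' ∉ S, form Q M (tauP Q M p (SchP Q M t.t)) (SchP Q M t'.t) = 0) :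
    ∃ t ∈ S, POnly M p t.t :=
  DC.exists_pOnly_of hp hQ (fun hx hy => Cfsg.Agent.H120.GLB.Tau.form_tauP hp hQ hx hy) hmn S hS hcl

end

end Cfsg.Agent.H505.S4536.DC.Fin
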