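import Cfsg.Agent.H505.S4536.DC.Span
import Cfsg.Agent.H614.Degree
import Mathlib.Algebra.Polynomial.Basic
import Mathlib.Algebra.Polynomial.AlgebraMap

/-!
# The truncation of a Schur product is not zero
-/

set_option autoImplicit false

open scoped ComplexConjugate

namespace Cfsg.Agent.H505.S4536.DC

open Cfsg.Agent.H577.GLB.Std
open Cfsg.Agent.H614 Cfsg.Agent.H614.GLn Cfsg.Agent.H614.GLn.RSt

theorem card_le_sum (s : Multiset ℕ) (h : ∀ i ∈ s, 0 < i) :
    s.card ≤ s.sum ∧ (s.card = s.sum → ∀ i ∈ s, i = 1) := by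
  induction s using Multiset.induction_on with
  | empty => simp
  | cons a s ih =>
    have h1 := ih fun i hi => h i (Multiset.mem_cons_of_mem hi)
    have h2 := h a (Multiset.mem_cons_self a s)
    rw [Multiset.card_cons, Multiset.sum_cons]
    refine ⟨by omega, fun h3 i hi => ?_⟩
    rcases Multiset.mem_cons.mp hi with rfl | hi'
    · omega
    · exact h1.2 (by omega) i hi'

theorem FM_ones_ne_zero {m n : ℕ} {β : Fin m → ℕ} (hβ : StrictMono β)
    (hs : ∑ i, β i = n + ∑ i : Fin m, (i : ℕ)) : FM (Multiset.replicate n 1) β ≠ 0 := by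
  have h1 := FM_ones_formula n β hs
  intro h
  rw [h, zero_mul] at h1
  have h2 : (n.factorial : ℤ) ≠ 0 := by exact_mod_cast Nat.factorial_ne_zero n
  have h3 : ∏ i : Fin m, ∏ j ∈ Finset.Ioi i, ((β j : ℤ) - β i) ≠ 0 := by
    rw [Finset.prod_ne_zero_iff]
    intro i _
    rw [Finset.prod_ne_zero_iff]
    intro j hj
    rw [Finset.mem_Ioi] at hj
    have := hβ hj
    omega
  exact mul_ne_zero h2 h3 h1.symm

theorem SS_X_ne_zero {m : ℕ} {β : Fin m → ℕ} (hβ : StrictMono β) :
    SS (A := Polynomial ℂ) (fun _ => Polynomial.X) (bsz β) β ≠ 0 := by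
  classical
  intro h
  have h1 := congrArg (fun f : Polynomial ℂ => f.coeff (bsz β)) h
  beta_reduce at h1
  rw [Polynomial.coeff_zero, SS, ZV, Polynomial.finset_sum_coeff] at h1
  let ν0 : Nat.Partition (bsz β) := ⟨Multiset.replicate (bsz β) 1, fun {i} hi => by
    rw [Multiset.eq_of_mem_replicate hi]; exact one_pos, by simp⟩
  rw [Finset.sum_eq_single ν0] at h1
  · rw [Polynomial.coeff_smul, Polynomial.coeff_smul] at h1
    have h2 : (ν0.parts.map fun _ => (Polynomial.X : Polynomial ℂ)).prod = Polynomial.X ^ (bsz β) := by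
      rw [Multiset.map_const', Multiset.prod_replicate]
      simp [ν0]
    rw [h2, Polynomial.coeff_X_pow_self, smul_eq_mul, smul_eq_mul, mul_one] at h1
    rcases mul_eq_zero.mp h1 with h3 | h3
    · rw [inv_eq_zero] at h3
      have h4 : 0 < H614.zz ν0.parts := zz_pos fun i hi => ν0.parts_pos hi
      have h5 : H614.zz ν0.parts = 0 := by exact_mod_cast h3
      omega
    · have h4 : FM (Multiset.replicate (bsz β) 1) β = 0 := by exact_mod_cast h3
      exact FM_ones_ne_zero hβ (bsz_eq hβ) h4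
  · intro ν _ hne
    rw [Polynomial.coeff_smul, Polynomial.coeff_smul, Multiset.map_const', Multiset.prod_replicate,
      Polynomial.coeff_X_pow, if_neg, smul_zero, smul_zero]
    intro hc
    apply hne
    apply Nat.Partition.ext
    have h3 := (card_le_sum ν.parts fun i hi => ν.parts_pos hi).2 (by rw [ν.parts_sum]; exact hc.symm)
    exact Multiset.eq_replicate.mpr ⟨hc.symm, h3⟩
  · intro h'
    exact absurd (Finset.mem_univ _) h'

section

variable {Q : ℤ} {M p : ℕ} [NeZero M]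

variable (M) in
/-- the degree homomorphism -/
noncomputable def dg : RS M →ₐ[ℂ] Polynomial ℂ := MvPolynomial.aeval fun _ => Polynomial.X

theorem dg_rv {k : ℕ} {c : ZMod M} (hk : 0 < k) (h : TorZ Q M k c) : dg M (rv Q M k c) = Polynomial.X := by
  rw [rv_of_tor hk h, dg, MvPolynomial.aeval_X]

theorem dg_tauP_rv (hp : p.Prime) (hQ : IsUnit (Q : ZMod M)) {k : ℕ} {c : ZMod M} (hk : 0 < k)
    (h : TorZ Q M k c) : dg M (tauP Q M p (rv Q M k c)) = Polynomial.X := by
  rw [tauP_rv hp hQ hk h, map_smul, map_sum]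
  have h1 : ∀ η ∈ Eta Q M p k, dg M (rv Q M k (c + η)) = Polynomial.X := by
    intro η hη
    exact dg_rv hk (torZ_add h ((mem_Eta hp).mp hη).1)
  rw [Finset.sum_congr rfl h1, Finset.sum_const, ← Nat.cast_smul_eq_nsmul ℂ, smul_smul,
    inv_mul_cancel₀ (card_Eta_ne hp k), one_smul]

theorem dg_tauP_SchP (hp : p.Prime) (hQ : IsUnit (Q : ZMod M)) {m : ℕ} (t : ZMod M → Fin m → ℕ) :
    dg M (tauP Q M p (SchP Q M t)) =
      ∏ c ∈ repsZ Q M, SS (A := Polynomial ℂ) (fun _ => Polynomial.X) (bsz (t c)) (t c) := by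
  rw [tauP_SchP, map_prod]
  refine Finset.prod_congr rfl fun c _ => ?_
  rw [tauP_Sch_pReg, map_SS]
  refine SS_congr _ _ fun j hj => ?_
  rw [Pw]
  exact dg_tauP_rv hp hQ (Nat.mul_pos hj (perZ_pos hQ c)) ((torZ_iff _ c).2 (dvd_mul_left _ _))

theorem tau_ne_zero (hp : p.Prime) (hQ : IsUnit (Q : ZMod M)) {m n : ℕ} (t : LabZ Q M m n) :
    tauP Q M p (SchP Q M t.t) ≠ 0 := by
  intro h
  have h1 := dg_tauP_SchP (M := M) hp hQ t.t
  rw [h, map_zero] at h1
  exact Finset.prod_ne_zero_iff.mpr (fun c _ => SS_X_ne_zero (t.mono c)) h1.symm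

end

end Cfsg.Agent.H505.S4536.DC
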