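import Cfsg.Agent.H505.S4536.DC.Deg
import Cfsg.Agent.H614.GLn.RSLab
import Mathlib.Algebra.MvPolynomial.Supported

/-!
# Linear independence of the truncations, existence of `p'`-labels
-/

set_option autoImplicit false

open scoped ComplexConjugate

namespace Cfsg.Agent.H505.S4536.DC

open Cfsg.Agent.H577.GLB.Std
open MvPolynomial Cfsg.Agent.H614 Cfsg.Agent.H614.GLn Cfsg.Agent.H614.GLn.RSt

section

variable {Q : ℤ} {M p : ℕ} [NeZero M]

theorem schP_linearIndependent (hQ : IsUnit (Q : ZMod M)) (m n : ℕ) :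
    LinearIndependent ℂ (fun t : LabZ Q M m n => SchP Q M t.t) := by
  rw [linearIndependent_iff']
  intro s g hg i hi
  have h := congrArg (fun x => form Q M x (SchP Q M i.t)) hg
  beta_reduce at h
  rw [form_sum_left, form_zero_left, Finset.sum_eq_single i] at h
  · rwa [form_smul_left, form_SchP hQ, if_pos rfl, mul_one] at h
  · intro j _ hj
    rw [form_smul_left, form_SchP hQ, if_neg, mul_zero]
    intro h'
    exact hj (LabZ.ext h')
  · intro h'
    exact absurd hi h'

variable (Q M p) in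
/-- rescaling of the variables -/
noncomputable def om : RS M →ₐ[ℂ] RS M := aeval fun v : Var M => ((Eta Q M p v.1).card : ℂ)⁻¹ • X v

variable (Q M p) in
/-- the inverse rescaling -/
noncomputable def om' : RS M →ₐ[ℂ] RS M := aeval fun v : Var M => ((Eta Q M p v.1).card : ℂ) • X v

theorem om'_om (hp : p.Prime) (x : RS M) : om' Q M p (om Q M p x) = x := by
  have h : (om' Q M p).comp (om Q M p) = AlgHom.id ℂ (RS M) := by
    apply algHom_ext
    intro v
    rw [AlgHom.comp_apply, om, aeval_X, map_smul, om', aeval_X, smul_smul,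
      inv_mul_cancel₀ (card_Eta_ne hp _), one_smul]
    rfl
  exact congrArg (fun f : RS M →ₐ[ℂ] RS M => f x) h

open Classical in
variable (M p) in
/-- deletion of the variables with singular labels -/
noncomputable def dl : RS M →ₐ[ℂ] RS M := aeval fun v : Var M => if pu M p * v.2 = v.2 then X v else 0

theorem pu_canon (hQ : IsUnit (Q : ZMod M)) (c : ZMod M) :
    pu M p * canon Q M c = canon Q M c ↔ pu M p * c = c := by
  obtain ⟨j, hj⟩ := sameZ_canon (Q := Q) c
  rw [hj, mul_left_comm]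
  exact (hQ.pow j).mul_right_inj

theorem dl_rv (hQ : IsUnit (Q : ZMod M)) {k : ℕ} {c : ZMod M} (hk : 0 < k) (h : TorZ Q M k c)
    (hc : pu M p * c = c) : dl M p (rv Q M k c) = rv Q M k c := by
  rw [rv_of_tor hk h, dl, aeval_X, if_pos ((pu_canon hQ c).mpr hc)]

theorem dl_rv_zero (hQ : IsUnit (Q : ZMod M)) {k : ℕ} {c : ZMod M}
    (hc : pu M p * c ≠ c) : dl M p (rv Q M k c) = 0 := by
  rw [rv]
  split_ifs with h
  · rw [dl, aeval_X, if_neg fun h' => hc ((pu_canon hQ c).mp h')]
  · rw [map_zero]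

theorem dl_tauP_rv (hp : p.Prime) (hQ : IsUnit (Q : ZMod M)) {k : ℕ} {c : ZMod M} (hk : 0 < k)
    (h : TorZ Q M k c) (hc : pu M p * c = c) :
    dl M p (tauP Q M p (rv Q M k c)) = om Q M p (rv Q M k c) := by
  rw [tauP_rv hp hQ hk h, map_smul, map_sum, Finset.sum_eq_single (0 : ZMod M)]
  · rw [add_zero, dl_rv hQ hk h hc, rv_of_tor hk h, om, aeval_X]
  · intro η hη hne
    apply dl_rv_zero hQ
    intro h'
    apply hne
    rw [mul_add, hc, ((mem_Eta hp).mp hη).2, add_zero] at h'
    exact (left_eq_add.mp h')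
  · intro h'
    exact absurd (zero_mem_Eta hp k) h'

theorem dl_tauP_SchP (hp : p.Prime) (hQ : IsUnit (Q : ZMod M)) {m : ℕ} {t : ZMod M → Fin m → ℕ}
    (hmono : ∀ c, StrictMono (t c)) (ht : POnly M p t) :
    dl M p (tauP Q M p (SchP Q M t)) = om Q M p (SchP Q M t) := by
  have h0 : om Q M p (SchP Q M t) = ∏ c ∈ repsZ Q M, om Q M p (Sch Q M c (t c)) := by
    rw [SchP, map_prod]
    refine Finset.prod_congr ?_ fun _ _ => rfl
    ext c
    rw [mem_repsZ, Finset.mem_filter]
    simp
  rw [tauP_SchP, map_prod, h0]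
  refine Finset.prod_congr rfl fun c _ => ?_
  rw [tauP_Sch_pReg, map_SS, DC.Sch_eq_SS, map_SS]
  by_cases hc : pu M p * c = c
  · refine SS_congr _ _ fun j hj => ?_
    rw [Pw]
    exact dl_tauP_rv hp hQ (Nat.mul_pos hj (perZ_pos hQ c)) ((torZ_iff _ c).2 (dvd_mul_left _ _)) hc
  · have h1 : bsz (t c) = 0 := ht c fun h => hc ((pReg_iff hp c).mp h)
    rw [h1, eq_id_of_bsz (hmono c) h1, SS_id, SS_id]

theorem tau_linearIndependent (hp : p.Prime) (hQ : IsUnit (Q : ZMod M)) (m n : ℕ) :
    LinearIndependent ℂ (fun t : {t : LabZ Q M m n // POnly M p t.t} => tauP Q M p (SchP Q M t.1.t)) := by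
  apply LinearIndependent.of_comp (dl M p).toLinearMap
  have h1 : ((dl M p).toLinearMap ∘ fun t : {t : LabZ Q M m n // POnly M p t.t} =>
      tauP Q M p (SchP Q M t.1.t)) =
      (om Q M p).toLinearMap ∘ fun t : {t : LabZ Q M m n // POnly M p t.t} => SchP Q M t.1.t := by
    funext t
    exact dl_tauP_SchP hp hQ t.1.mono t.2
  rw [h1]
  apply LinearIndependent.map'
  · exact (schP_linearIndependent hQ m n).comp _ Subtype.val_injective
  · rw [LinearMap.ker_eq_bot]
    intro x y hxy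
    have h2 : om Q M p x = om Q M p y := hxy
    rw [← om'_om hp x, h2, om'_om hp]

/-! ### Positivity of the form -/

omit [NeZero M] in
theorem zz_pos {v : Var M} (hv : 0 < v.1) : 0 < H577.GLB.Std.zz Q M v := by
  rw [H577.GLB.Std.zz]
  exact Finset.card_pos.mpr ⟨0, by simp [hv]⟩

omit [NeZero M] in
theorem GenR_le : GenR Q M ≤ supported ℂ {v : Var M | 0 < v.1} := by
  rw [GenR]
  refine Algebra.adjoin_le ?_
  rintro _ ⟨v, rfl⟩
  rw [SetLike.mem_coe]
  beta_reduce
  rw [rv]
  split_ifs with h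
  · exact X_mem_supported.mpr h.1
  · exact Subalgebra.zero_mem _

theorem Nf_pos {x : RS M} (hx : x ∈ GenR Q M) {s : Var M →₀ ℕ} (hs : s ∈ x.support) :
    ∃ r : ℕ, 0 < r ∧ Nf Q M s = r := by
  have h1 := mem_supported.mp (GenR_le hx)
  refine ⟨s.prod fun v e => e.factorial * (H577.GLB.Std.zz Q M v) ^ e, ?_, ?_⟩
  · rw [Finsupp.prod]
    refine Finset.prod_pos fun v hv => Nat.mul_pos (Nat.factorial_pos _) (Nat.pow_pos (zz_pos ?_))
    have h2 : v ∈ x.vars := (mem_vars v).mpr ⟨s, hs, hv⟩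
    exact h1 h2
  · rw [Nf, Finsupp.prod, Finsupp.prod]
    push_cast
    rfl

theorem eq_zero_of_form {x : RS M} (hx : x ∈ GenR Q M) (h : form Q M x x = 0) : x = 0 := by
  classical
  by_contra hne
  rw [form_eq Q M (Finset.Subset.refl _)] at h
  have h1 : ∀ s ∈ x.support, x.coeff s * conj (x.coeff s) * Nf Q M s =
      ((Complex.normSq (x.coeff s) * (Nf Q M s).re : ℝ) : ℂ) := by
    intro s hs
    obtain ⟨r, _, hr⟩ := Nf_pos hx hs
    rw [Complex.mul_conj, hr]
    push_cast
    simp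
  rw [Finset.sum_congr rfl h1, ← Complex.ofReal_sum, Complex.ofReal_eq_zero] at h
  have h2 : ∀ s ∈ x.support, 0 < Complex.normSq (x.coeff s) * (Nf Q M s).re := by
    intro s hs
    obtain ⟨r, hr0, hr⟩ := Nf_pos hx hs
    apply mul_pos
    · exact Complex.normSq_pos.mpr (mem_support_iff.mp hs)
    · rw [hr]
      simpa using hr0
  have h3 : x.support.Nonempty := by
    rw [Finset.nonempty_iff_ne_empty]
    intro h4
    exact hne (support_eq_empty.mp h4)
  exact (Finset.sum_pos h2 h3).ne' h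

theorem tauP_mem_GenR (x : RS M) : tauP Q M p x ∈ GenR Q M := by
  have h : x ∈ (GenR Q M).comap (tauP Q M p) := by
    have h1 : (⊤ : Subalgebra ℂ (RS M)) ≤ (GenR Q M).comap (tauP Q M p) := by
      rw [← adjoin_range_X]
      refine Algebra.adjoin_le ?_
      rintro _ ⟨v, rfl⟩
      rw [SetLike.mem_coe, Subalgebra.mem_comap, tauP_X]
      refine Subalgebra.smul_mem _ (Subalgebra.sum_mem _ fun η _ => ?_) _
      exact Algebra.subset_adjoin ⟨(v.1, v.2 + η), rfl⟩
    exact h1 trivial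
  exact h

omit [NeZero M] in
theorem Sch_mem_GenR {m : ℕ} (c : ZMod M) (β : Fin m → ℕ) : Sch Q M c β ∈ GenR Q M := by
  rw [Sch]
  refine Subalgebra.sum_mem _ fun ν _ => Subalgebra.smul_mem _ (Subalgebra.multiset_prod_mem _ fun x hx => ?_) _
  obtain ⟨j, _, rfl⟩ := Multiset.mem_map.mp hx
  exact Algebra.subset_adjoin ⟨(j * perZ Q M c, c), rfl⟩

theorem SchP_mem_GenR {m : ℕ} (t : ZMod M → Fin m → ℕ) : SchP Q M t ∈ GenR Q M := by
  rw [SchP]
  exact Subalgebra.prod_mem _ fun c _ => Sch_mem_GenR c _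

/-- (D2') with the self-adjointness as a hypothesis -/
theorem exists_pOnly_of (hp : p.Prime) (hQ : IsUnit (Q : ZMod M))
    (hself : ∀ {x y : RS M}, x ∈ GenR Q M → y ∈ GenR Q M →
      form Q M (tauP Q M p x) y = form Q M x (tauP Q M p y)) {m n : ℕ} (hmn : n ≤ m)
    (S : Set (LabZ Q M m n)) (hS : S.Nonempty)
    (hcl : ∀ t ∈ S, ∀ t' ∉ S, form Q M (tauP Q M p (SchP Q M t.t)) (SchP Q M t'.t) = 0) :
    ∃ t ∈ S, POnly M p t.t := by
  by_contra hno
  push Not at hno
  obtain ⟨t, ht⟩ := hS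
  have h1 : ∀ x ∈ Submodule.span ℤ {x : RS M | ∃ t' : LabZ Q M m n,
      POnly M p t'.t ∧ SameFam Q M p t.t t'.t ∧ x = tauP Q M p (SchP Q M t'.t)},
      form Q M (SchP Q M t.t) x = 0 := by
    intro x hx
    induction hx using Submodule.span_induction with
    | mem x hx =>
      obtain ⟨t', h2, _, rfl⟩ := hx
      rw [← hself (SchP_mem_GenR _) (SchP_mem_GenR _)]
      exact hcl t ht t' fun h3 => hno t' h3 h2
    | zero => exact form_zero_right Q M _
    | add x y _ _ hx hy => rw [form_add_right, hx, hy, add_zero]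
    | smul a x _ hx =>
      rw [← Int.cast_smul_eq_zsmul ℂ, form_smul_right, hx, mul_zero]
  have h2 := h1 _ (tau_mem_span hp hQ hmn t)
  have h3 : form Q M (tauP Q M p (SchP Q M t.t)) (tauP Q M p (SchP Q M t.t)) = 0 := by
    have h4 : tauP Q M p (tauP Q M p (SchP Q M t.t)) = tauP Q M p (SchP Q M t.t) := by
      have h5 : ∀ x ∈ GenR Q M, tauP Q M p (tauP Q M p x) = tauP Q M p x := by
        intro x hx
        rw [GenR] at hx
        induction hx using Algebra.adjoin_induction with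
        | mem x hx =>
          obtain ⟨v, rfl⟩ := hx
          beta_reduce
          by_cases h : 0 < v.1 ∧ TorZ Q M v.1 v.2
          · have h6 := congrArg (tauP Q M p) (tauP_rv (p := p) hp hQ h.1 h.2)
            rw [h6, map_smul, map_sum]
            have h7 : ∀ η ∈ Eta Q M p v.1, tauP Q M p (rv Q M v.1 (v.2 + η)) =
                tauP Q M p (rv Q M v.1 v.2) := by
              intro η hη
              rw [tauP_rv_pu hp hQ h.1 (torZ_add h.2 ((mem_Eta hp).mp hη).1), mul_add,
                ((mem_Eta hp).mp hη).2, add_zero, ← tauP_rv_pu hp hQ h.1 h.2]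
            rw [Finset.sum_congr rfl h7, Finset.sum_const, ← Nat.cast_smul_eq_nsmul ℂ, smul_smul,
              inv_mul_cancel₀ (card_Eta_ne hp _), one_smul]
          · rw [rv, if_neg h, map_zero, map_zero]
        | algebraMap r => rw [AlgHom.commutes, AlgHom.commutes]
        | add x y _ _ hx hy => rw [map_add, map_add, hx, hy]
        | mul x y _ _ hx hy => rw [map_mul, map_mul, hx, hy]
      exact h5 _ (SchP_mem_GenR _)
    rw [← hself (tauP_mem_GenR _) (SchP_mem_GenR _), h4, hself (SchP_mem_GenR _) (SchP_mem_GenR _), h2]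
  exact tau_ne_zero hp hQ t (eq_zero_of_form (tauP_mem_GenR _) h3)

end

end Cfsg.Agent.H505.S4536.DC
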