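import Cfsg.Agent.H577.GLB.StdLab
import Cfsg.Agent.H614.GLn.RSForm

/-!
# `p'`-parts of labels, orbits
-/

set_option autoImplicit false

open scoped ComplexConjugate

namespace Cfsg.Agent.H505.S4536.DC

open Cfsg.Agent.H577.GLB.Std
open MvPolynomial Cfsg.Agent.H614 Cfsg.Agent.H614.GLn.RSt

section idem

variable {M p : ℕ} [NeZero M]

theorem exists_idem (hp : p.Prime) : ∃ u : ZMod M, u * u = u ∧ (∀ c, PReg M p c ↔ u * c = c) ∧
    (∀ c : ZMod M, (∃ j : ℕ, (p : ZMod M) ^ j * c = 0) ↔ u * c = 0) ∧ (∀ c, PPow M p c ↔ u * c = 0) := by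
  have hM : M ≠ 0 := NeZero.ne M
  obtain ⟨a, M', hM', hMa⟩ := Nat.exists_eq_pow_mul_and_not_dvd hM p hp.ne_one
  have hco : (p ^ a).Coprime M' := Nat.Coprime.pow_left a ((Nat.Prime.coprime_iff_not_dvd hp).mpr hM')
  obtain ⟨U, hU1, hU2⟩ := Nat.chineseRemainder hco 0 1
  have hcop : M'.Coprime p := ((Nat.Prime.coprime_iff_not_dvd hp).mpr hM').symm
  -- `M' u = 0`
  have h1 : (M' : ZMod M) * (U : ZMod M) = 0 := by
    rw [← Nat.cast_mul, ZMod.natCast_eq_zero_iff, hMa]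
    obtain ⟨w, hw⟩ := (Nat.modEq_zero_iff_dvd).mp hU1
    exact ⟨w, by rw [hw]; ring⟩
  -- `p ^ a u = p ^ a`
  have h2 : ((p ^ a : ℕ) : ZMod M) * (U : ZMod M) = ((p ^ a : ℕ) : ZMod M) := by
    rw [← Nat.cast_mul, ZMod.natCast_eq_natCast_iff]
    have h3 : p ^ a * U ≡ p ^ a * 1 [MOD p ^ a * M'] := Nat.ModEq.mul_left' _ hU2
    rw [hMa]
    simpa using h3
  have hzero : ∀ c : ZMod M, addOrderOf c ∣ M' → addOrderOf c ∣ p ^ a → c = 0 := by
    intro c hc1 hc2
    have h3 := Nat.dvd_gcd hc2 hc1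
    rw [hco] at h3
    exact AddMonoid.addOrderOf_eq_one_iff.mp (Nat.dvd_one.mp h3)
  have hA : ∀ c : ZMod M, addOrderOf ((U : ZMod M) * c) ∣ M' := by
    intro c
    apply addOrderOf_dvd_of_nsmul_eq_zero
    rw [nsmul_eq_mul, ← mul_assoc, h1, zero_mul]
  have hB : ∀ c : ZMod M, addOrderOf (c - (U : ZMod M) * c) ∣ p ^ a := by
    intro c
    apply addOrderOf_dvd_of_nsmul_eq_zero
    rw [nsmul_eq_mul, mul_sub, ← mul_assoc, h2, sub_self]
  have hMdvd : ∀ c : ZMod M, addOrderOf c ∣ p ^ a * M' := by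
    intro c
    apply addOrderOf_dvd_of_nsmul_eq_zero
    rw [nsmul_eq_mul, ← hMa, ZMod.natCast_self, zero_mul]
  have hP : ∀ c : ZMod M, (addOrderOf c).Coprime p → (U : ZMod M) * c = c := by
    intro c hc
    have h3 : addOrderOf c ∣ M' := by
      have h4 : (addOrderOf c).Coprime (p ^ a) := Nat.Coprime.pow_right a hc
      exact h4.dvd_of_dvd_mul_left (hMdvd c)
    symm
    rw [← sub_eq_zero]
    apply hzero _ _ (hB c)
    apply addOrderOf_dvd_of_nsmul_eq_zero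
    have h5 : (M' : ZMod M) * c = 0 := by
      rw [← nsmul_eq_mul]
      exact addOrderOf_dvd_iff_nsmul_eq_zero.mp h3
    rw [nsmul_eq_mul, mul_sub, mul_left_comm, h5, mul_zero, sub_zero]
  have hJ : ∀ c : ZMod M, (∃ j : ℕ, (p : ZMod M) ^ j * c = 0) → (U : ZMod M) * c = 0 := by
    rintro c ⟨j, hj⟩
    have h6 : addOrderOf ((U : ZMod M) * c) ∣ p ^ j := by
      apply addOrderOf_dvd_of_nsmul_eq_zero
      rw [nsmul_eq_mul, mul_left_comm, Nat.cast_pow, hj, mul_zero]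
    have h7 := Nat.dvd_gcd h6 (hA c)
    rw [(Nat.Coprime.pow_left j hcop.symm : (p ^ j).Coprime M')] at h7
    exact AddMonoid.addOrderOf_eq_one_iff.mp (Nat.dvd_one.mp h7)
  have hK : ∀ c : ZMod M, (U : ZMod M) * c = 0 → (p : ZMod M) ^ a * c = 0 := by
    intro c hc
    have h8 := hB c
    rw [hc, sub_zero] at h8
    have h9 := addOrderOf_dvd_iff_nsmul_eq_zero.mp h8
    rwa [nsmul_eq_mul, Nat.cast_pow] at h9
  refine ⟨(U : ZMod M), ?_, ?_, ?_, ?_⟩
  · refine hP _ ?_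
    have h10 := hA 1
    rw [mul_one] at h10
    exact Nat.Coprime.coprime_dvd_left h10 hcop
  · intro c
    refine ⟨fun h => hP c h, fun h => ?_⟩
    have h10 := hA c
    rw [h] at h10
    exact Nat.Coprime.coprime_dvd_left h10 hcop
  · intro c
    exact ⟨hJ c, fun h => ⟨a, hK c h⟩⟩
  · intro c
    constructor
    · rintro ⟨j, hj⟩
      apply hJ
      refine ⟨j, ?_⟩
      have h11 : (p ^ j) • c = 0 := addOrderOf_dvd_iff_nsmul_eq_zero.mp (dvd_of_eq hj)
      rwa [nsmul_eq_mul, Nat.cast_pow] at h11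
    · intro h
      have h12 : addOrderOf c ∣ p ^ a := by
        apply addOrderOf_dvd_of_nsmul_eq_zero
        rw [nsmul_eq_mul, Nat.cast_pow]
        exact hK c h
      obtain ⟨j, _, hj⟩ := (Nat.dvd_prime_pow hp).mp h12
      exact ⟨j, hj⟩

variable (M p) in
open Classical in
/-- the idempotent of the `p'`-part -/
noncomputable def pu : ZMod M := if hp : p.Prime then (exists_idem (M := M) hp).choose else 1

theorem pu_spec (hp : p.Prime) : pu M p * pu M p = pu M p ∧ (∀ c, PReg M p c ↔ pu M p * c = c) ∧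
    (∀ c : ZMod M, (∃ j : ℕ, (p : ZMod M) ^ j * c = 0) ↔ pu M p * c = 0) ∧
      (∀ c, PPow M p c ↔ pu M p * c = 0) := by
  have h : pu M p = (exists_idem (M := M) hp).choose := dif_pos hp
  rw [h]
  exact (exists_idem (M := M) hp).choose_spec

theorem pu_pu (hp : p.Prime) (c : ZMod M) : pu M p * (pu M p * c) = pu M p * c := by
  rw [← mul_assoc, (pu_spec hp).1]

theorem pReg_iff (hp : p.Prime) (c : ZMod M) : PReg M p c ↔ pu M p * c = c := (pu_spec hp).2.1 c

theorem pPow_iff (hp : p.Prime) (c : ZMod M) : PPow M p c ↔ pu M p * c = 0 := (pu_spec hp).2.2.2 c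

theorem pPow_sub_iff (hp : p.Prime) {c δ : ZMod M} (hδ : PReg M p δ) :
    PPow M p (c - δ) ↔ pu M p * c = δ := by
  rw [pPow_iff hp, mul_sub, (pReg_iff hp δ).mp hδ, sub_eq_zero]

open Classical in
theorem mem_Eta (hp : p.Prime) {Q : ℤ} {k : ℕ} {η : ZMod M} :
    η ∈ Eta Q M p k ↔ TorZ Q M k η ∧ pu M p * η = 0 := by
  rw [Eta, Finset.mem_filter, (pu_spec hp).2.2.1 η]
  simp

end idem

section tor

variable {Q : ℤ} {M : ℕ}

theorem torZ_mul {k : ℕ} {c : ZMod M} (a : ZMod M) (h : TorZ Q M k c) : TorZ Q M k (a * c) := by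
  rw [TorZ] at h ⊢
  rw [mul_left_comm, h, mul_zero]

theorem torZ_add {k : ℕ} {c c' : ZMod M} (h : TorZ Q M k c) (h' : TorZ Q M k c') : TorZ Q M k (c + c') := by
  rw [TorZ] at h h' ⊢
  rw [mul_add, h, h', add_zero]

theorem torZ_sub {k : ℕ} {c c' : ZMod M} (h : TorZ Q M k c) (h' : TorZ Q M k c') : TorZ Q M k (c - c') := by
  rw [TorZ] at h h' ⊢
  rw [mul_sub, h, h', sub_zero]

theorem torZ_mul_iff (hQ : IsUnit (Q : ZMod M)) {k : ℕ} {c : ZMod M} (j : ℕ) :
    TorZ Q M k ((Q : ZMod M) ^ j * c) ↔ TorZ Q M k c := by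
  refine ⟨fun h => ?_, torZ_mul _⟩
  rw [TorZ] at h ⊢
  rw [mul_left_comm] at h
  exact ((hQ.pow j).mul_right_eq_zero).mp h

variable [NeZero M]

theorem canon_pow_mul (hQ : IsUnit (Q : ZMod M)) (j : ℕ) (c : ZMod M) :
    canon Q M ((Q : ZMod M) ^ j * c) = canon Q M c :=
  (canon_eq_of_same hQ ⟨j, rfl⟩).symm

theorem canon_mul (hQ : IsUnit (Q : ZMod M)) (c : ZMod M) :
    canon Q M ((Q : ZMod M) * c) = canon Q M c := by
  have := canon_pow_mul hQ 1 c
  rwa [pow_one] at this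

theorem rv_pow_mul (hQ : IsUnit (Q : ZMod M)) (k j : ℕ) (c : ZMod M) :
    rv Q M k ((Q : ZMod M) ^ j * c) = rv Q M k c := by
  rw [rv, rv, canon_pow_mul hQ, torZ_mul_iff hQ]

theorem rv_same (hQ : IsUnit (Q : ZMod M)) (k : ℕ) {c c' : ZMod M} (h : SameZ Q M c c') :
    rv Q M k c' = rv Q M k c := by
  obtain ⟨j, rfl⟩ := h
  exact rv_pow_mul hQ k j c

omit [NeZero M] in
theorem rv_of_tor {k : ℕ} {c : ZMod M} (hk : 0 < k) (h : TorZ Q M k c) : rv Q M k c = X (k, canon Q M c) := by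
  rw [rv, if_pos ⟨hk, h⟩]

theorem Pw_same (hQ : IsUnit (Q : ZMod M)) (j : ℕ) {c c' : ZMod M} (h : SameZ Q M c c') :
    Pw Q M j c' = Pw Q M j c := by
  rw [Pw, Pw, perZ_of_same hQ h, rv_same hQ _ h]

omit [NeZero M] in
theorem same_mul {c c' : ZMod M} (a : ZMod M) (h : SameZ Q M c c') : SameZ Q M (a * c) (a * c') := by
  obtain ⟨j, rfl⟩ := h
  exact ⟨j, by rw [mul_left_comm]⟩

omit [NeZero M] in
theorem t_same {m : ℕ} {t : ZMod M → Fin m → ℕ} (ht : ∀ c, t ((Q : ZMod M) * c) = t c) {c c' : ZMod M}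
    (h : SameZ Q M c c') : t c' = t c := by
  obtain ⟨j, rfl⟩ := h
  induction j with
  | zero => rw [pow_zero, one_mul]
  | succ j ih => rw [pow_succ', mul_assoc, ht, ih]

end tor

/-! ### Sums over orbits -/

section orbit

variable {Q : ℤ} {M : ℕ} [NeZero M]

open Classical in
theorem card_orbit (hQ : IsUnit (Q : ZMod M)) {c : ZMod M} (hc : canon Q M c = c) :
    (Finset.univ.filter fun c' : ZMod M => canon Q M c' = c).card = perZ Q M c := by
  have h1 : (Finset.univ.filter fun c' : ZMod M => canon Q M c' = c) =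
      (Finset.range (perZ Q M c)).image fun j => (fun x : ZMod M => (Q : ZMod M) * x)^[j] c := by
    ext c'
    simp only [Finset.mem_filter, Finset.mem_univ, true_and, Finset.mem_image, Finset.mem_range]
    constructor
    · intro h
      rw [← hc, canon_eq_iff hQ] at h
      obtain ⟨j, hj⟩ := SameZ.symm' hQ h
      refine ⟨j % perZ Q M c, Nat.mod_lt _ (perZ_pos hQ c), ?_⟩
      rw [perZ, Function.iterate_mod_minimalPeriod_eq, iter_mul, hj]
    · rintro ⟨j, _, rfl⟩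
      rw [iter_mul, canon_pow_mul hQ, hc]
  rw [h1, Finset.card_image_of_injOn, Finset.card_range]
  intro i hi j hj hij
  rw [Finset.coe_range] at hi hj
  exact Function.iterate_injOn_Iio_minimalPeriod hi hj hij

open Classical in
/-- the sum of a function constant on orbits -/
theorem sum_orbit (hQ : IsUnit (Q : ZMod M)) (f : ZMod M → ℕ) (hf : ∀ c c', SameZ Q M c c' → f c' = f c) :
    ∑ c, f c = ∑ c ∈ repsZ Q M, perZ Q M c * f c := by
  rw [← Finset.sum_fiberwise_of_maps_to (s := Finset.univ) (t := repsZ Q M) (g := canon Q M)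
    (fun c _ => canon_mem_repsZ hQ c)]
  refine Finset.sum_congr rfl fun c hc => ?_
  rw [mem_repsZ] at hc
  have h1 : ∀ c' ∈ Finset.univ.filter (fun c' : ZMod M => canon Q M c' = c), f c' = f c := by
    intro c' hc'
    have h2 := (Finset.mem_filter.mp hc').2
    rw [← hc, canon_eq_iff hQ] at h2
    exact hf _ _ (SameZ.symm' hQ h2)
  rw [Finset.sum_congr rfl h1, Finset.sum_const, card_orbit hQ hc, smul_eq_mul]

end orbit

end Cfsg.Agent.H505.S4536.DC
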