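import Cfsg.Agent.H614.GLn.Sym
import Cfsg.Agent.H614.Colour

/-!
# Pieri rule for the Adams operations of the complete symmetric functions

`(p_k ∘ h_j) S_β = ∑_{|ρ| = j} S_{β + k ρ}`; the products `(p_k ∘ S_β') S_β` are integral combinations of
Schur functions of the same colour as `β`.
-/

set_option autoImplicit false

namespace Cfsg.Agent.H505.S4536.DC

open Finset Cfsg.Agent.H614 Cfsg.Agent.H614.GLn

variable {m : ℕ}

theorem sum_up_tuple {W : Type*} [AddCommMonoid W] (f : (Fin m → ℕ) → W) (i : Fin m) {r j : ℕ} (h : r ≤ j) :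
    ∑ ρ ∈ Finset.Nat.antidiagonalTuple m (j - r), f (up ρ i r) =
      ∑ ρ ∈ (Finset.Nat.antidiagonalTuple m j).filter (fun ρ => r ≤ ρ i), f ρ := by
  refine Finset.sum_bij' (fun ρ _ => up ρ i r) (fun ρ _ => dn ρ i r) ?_ ?_ ?_ ?_ ?_
  · intro ρ hρ
    rw [Finset.Nat.mem_antidiagonalTuple] at hρ
    rw [Finset.mem_filter, Finset.Nat.mem_antidiagonalTuple, sum_up, up_self]
    omega
  · intro ρ hρ
    rw [Finset.mem_filter, Finset.Nat.mem_antidiagonalTuple] at hρ
    rw [Finset.Nat.mem_antidiagonalTuple]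
    have := sum_dn ρ i hρ.2
    omega
  · intro ρ _
    exact dn_up_self _ _ _
  · intro ρ hρ
    rw [Finset.mem_filter] at hρ
    exact up_dn_self _ _ hρ.2
  · intro ρ _
    rfl

section

variable {A : Type*} [CommRing A] [Algebra ℂ A] (P : ℕ → A)

/-- **Pieri rule.** -/
theorem pieri {k : ℕ} (hk : 0 < k) (j n : ℕ) (h : n + k * j ≤ m) (β : Fin m → ℕ) :
    hh (fun i => P (k * i)) j * SS P n β =
      ∑ ρ ∈ Finset.Nat.antidiagonalTuple m j, SS P (n + k * j) (fun i => β i + k * ρ i) := by
  induction j using Nat.strong_induction_on with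
  | _ j ih =>
    rcases Nat.eq_zero_or_pos j with rfl | hj
    · rw [hh_zero, one_mul, Finset.Nat.antidiagonalTuple_zero_right, Finset.sum_singleton]
      simp
    · have hj' : (j : ℂ) ≠ 0 := by exact_mod_cast hj.ne'
      apply smul_right_injective A hj'
      beta_reduce
      rw [← smul_mul_assoc, hh_rec, Finset.sum_mul]
      have h1 : ∀ r ∈ Finset.Icc 1 j, P (k * r) * hh (fun i => P (k * i)) (j - r) * SS P n β =
          ∑ i, ∑ ρ ∈ (Finset.Nat.antidiagonalTuple m j).filter (fun ρ => r ≤ ρ i),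
            SS P (n + k * j) (fun i => β i + k * ρ i) := by
        intro r hr
        rw [Finset.mem_Icc] at hr
        have h2 : k * (j - r) + k * r = k * j := by
          rw [← mul_add, Nat.sub_add_cancel hr.2]
        rw [mul_assoc, ih (j - r) (by omega) (by omega), Finset.mul_sum]
        have h3 : ∀ ρ ∈ Finset.Nat.antidiagonalTuple m (j - r),
            P (k * r) * SS P (n + k * (j - r)) (fun i => β i + k * ρ i) =
            ∑ i, SS P (n + k * j) (fun i' => β i' + k * up ρ i r i') := by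
          intro ρ _
          rw [mul_SS P (Nat.mul_pos hk hr.1) (by omega)]
          refine Finset.sum_congr rfl fun i _ => ?_
          congr 1
          · omega
          · funext i'
            by_cases hi : i' = i
            · subst hi
              rw [up_self, up_self]
              ring
            · rw [up_ne _ _ hi, up_ne _ _ hi]
        rw [Finset.sum_congr rfl h3, Finset.sum_comm]
        refine Finset.sum_congr rfl fun i _ => ?_
        exact sum_up_tuple (fun ρ => SS P (n + k * j) (fun i' => β i' + k * ρ i')) i hr.2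
      rw [Finset.sum_congr rfl h1, Finset.smul_sum]
      simp only [Finset.sum_filter]
      rw [Finset.sum_congr rfl fun r _ => Finset.sum_comm, Finset.sum_comm]
      refine Finset.sum_congr rfl fun ρ hρ => ?_
      rw [Finset.Nat.mem_antidiagonalTuple] at hρ
      rw [Finset.sum_comm]
      have h4 : ∀ i : Fin m, ∑ r ∈ Finset.Icc 1 j,
          (if r ≤ ρ i then SS P (n + k * j) (fun i => β i + k * ρ i) else 0) =
          (ρ i) • SS P (n + k * j) (fun i => β i + k * ρ i) := by
        intro i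
        have hi : ρ i ≤ j := by
          rw [← hρ]
          exact Finset.single_le_sum (f := ρ) (fun _ _ => Nat.zero_le _) (Finset.mem_univ i)
        rw [← Finset.sum_filter, Finset.sum_const]
        congr 1
        have : (Finset.Icc 1 j).filter (fun r => r ≤ ρ i) = Finset.Icc 1 (ρ i) := by
          ext r
          simp only [Finset.mem_filter, Finset.mem_Icc]
          omega
        rw [this, Nat.card_Icc, Nat.add_sub_cancel]
      rw [Finset.sum_congr rfl fun i _ => h4 i, ← Finset.sum_smul, hρ, Nat.cast_smul_eq_nsmul]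

/-- integral combinations of Schur functions of size `n` of the same colour as `β0` -/
def Sp (e n : ℕ) (β0 : Fin m → ℕ) : Submodule ℤ A :=
  Submodule.span ℤ {x | ∃ γ : Fin m → ℕ, StrictMono γ ∧ ∑ i, γ i = n + ∑ i : Fin m, (i : ℕ) ∧
    SameCol e γ β0 ∧ x = SS P n γ}

theorem SS_mem_Sp {e n : ℕ} {β0 γ : Fin m → ℕ} (h : SameCol e γ β0) : SS P n γ ∈ Sp P e n β0 := by
  by_cases hs : ∑ i, γ i = n + ∑ i : Fin m, (i : ℕ)
  · by_cases hi : Function.Injective γ
    · have h1 : StrictMono (γ ∘ Tuple.sort γ) :=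
        (Tuple.monotone_sort γ).strictMono_of_injective (hi.comp (Tuple.sort γ).injective)
      have h2 := SS_alt P n (Tuple.sort γ) γ
      have h3 : SS P n γ = sg (Tuple.sort γ) • SS P n (γ ∘ Tuple.sort γ) := by
        rw [h2, smul_smul, sg_mul_self, one_smul]
      rw [h3]
      refine Submodule.smul_mem _ _ (Submodule.subset_span ⟨_, h1, ?_, ?_, rfl⟩)
      · rw [← hs]
        exact Equiv.sum_comp (Tuple.sort γ) γ
      · exact (sameCol_comp e γ _).trans h
    · rw [(SS_alt P n).eq_zero_of_not_injective two_torsion_alg hi]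
      exact Submodule.zero_mem _
  · rw [SS_eq_zero_of_sum P hs]
    exact Submodule.zero_mem _

theorem hh_mul_mem {e k : ℕ} (hk : 0 < k) (hek : e ∣ k) {n : ℕ} {β0 : Fin m → ℕ} {v : A}
    (hv : v ∈ Sp P e n β0) (j : ℕ) (h : n + k * j ≤ m) :
    hh (fun i => P (k * i)) j * v ∈ Sp P e (n + k * j) β0 := by
  induction hv using Submodule.span_induction with
  | mem x hx =>
    obtain ⟨γ, _, _, hc, rfl⟩ := hx
    rw [pieri P hk j n h γ]
    refine Submodule.sum_mem _ fun ρ _ => SS_mem_Sp P ?_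
    refine (sameCol_of_mod fun i => ?_).trans hc
    obtain ⟨c, rfl⟩ := hek
    rw [mul_assoc, Nat.add_mul_mod_self_left]
  | zero => rw [mul_zero]; exact Submodule.zero_mem _
  | add x y _ _ hx hy => rw [mul_add]; exact Submodule.add_mem _ hx hy
  | smul a x _ hx => rw [mul_smul_comm]; exact Submodule.smul_mem _ _ hx

theorem prod_hh_mul_mem {ι : Type*} {e k : ℕ} (hk : 0 < k) (hek : e ∣ k) {n : ℕ} {β0 : Fin m → ℕ} {v : A}
    (hv : v ∈ Sp P e n β0) (s : Finset ι) (a : ι → ℕ) (h : n + k * ∑ i ∈ s, a i ≤ m) :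
    (∏ i ∈ s, hh (fun i => P (k * i)) (a i)) * v ∈ Sp P e (n + k * ∑ i ∈ s, a i) β0 := by
  classical
  induction s using Finset.induction_on with
  | empty => simpa using hv
  | insert i s hi ih =>
    rw [Finset.sum_insert hi] at h ⊢
    rw [Finset.prod_insert hi, mul_assoc]
    have h1 := ih (by rw [mul_add] at h; omega)
    have h2 := hh_mul_mem P hk hek h1 (a i) (by rw [mul_add] at h; omega)
    have h3 : n + k * ∑ i ∈ s, a i + k * a i = n + k * (a i + ∑ i ∈ s, a i) := by ring
    rwa [h3] at h2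

theorem SS_mul_mem {e k : ℕ} (hk : 0 < k) (hek : e ∣ k) {n n' : ℕ} {β0 β' : Fin m → ℕ} {v : A}
    (hv : v ∈ Sp P e n β0) (h' : ∑ i, β' i = n' + ∑ i : Fin m, (i : ℕ)) (h : n + k * n' ≤ m) :
    SS (fun i => P (k * i)) n' β' * v ∈ Sp P e (n + k * n') β0 := by
  rw [SS_eq_JT (fun i => P (k * i)) n' h', JT, Finset.sum_mul]
  refine Submodule.sum_mem _ fun σ _ => ?_
  rw [smul_mul_assoc]
  refine Submodule.smul_mem _ _ ?_
  by_cases hσ : ∀ i, (σ i : ℕ) ≤ β' i
  · have h1 : ∑ i, (β' i - (σ i : ℕ)) = n' := by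
      have h2 : ∑ i, (β' i - (σ i : ℕ)) + ∑ i, ((σ i : Fin m) : ℕ) = ∑ i, β' i := by
        rw [← Finset.sum_add_distrib]
        exact Finset.sum_congr rfl fun i _ => Nat.sub_add_cancel (hσ i)
      rw [Equiv.sum_comp σ (fun i : Fin m => (i : ℕ))] at h2
      omega
    have h3 : ∏ i, jt (fun i => P (k * i)) (β' i) (σ i : ℕ) =
        ∏ i, hh (fun i => P (k * i)) (β' i - (σ i : ℕ)) :=
      Finset.prod_congr rfl fun i _ => by rw [jt, if_pos (hσ i)]
    rw [h3]
    have h4 := prod_hh_mul_mem P hk hek hv Finset.univ (fun i => β' i - (σ i : ℕ)) (by rw [h1]; exact h)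
    rwa [h1] at h4
  · push Not at hσ
    obtain ⟨i, hi⟩ := hσ
    rw [Finset.prod_eq_zero (Finset.mem_univ i) (by rw [jt, if_neg (by omega)]), zero_mul]
    exact Submodule.zero_mem _

theorem prod_SS_mul_mem {ι : Type*} {e : ℕ} {n : ℕ} {β0 : Fin m → ℕ} {v : A}
    (hv : v ∈ Sp P e n β0) (s : Finset ι) (k : ι → ℕ) (hk : ∀ i ∈ s, 0 < k i) (hek : ∀ i ∈ s, e ∣ k i)
    (n' : ι → ℕ) (β' : ι → Fin m → ℕ) (h' : ∀ i ∈ s, ∑ l, β' i l = n' i + ∑ l : Fin m, (l : ℕ))
    (h : n + ∑ i ∈ s, k i * n' i ≤ m) :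
    (∏ i ∈ s, SS (fun l => P (k i * l)) (n' i) (β' i)) * v ∈ Sp P e (n + ∑ i ∈ s, k i * n' i) β0 := by
  classical
  induction s using Finset.induction_on with
  | empty => simpa using hv
  | insert i s hi ih =>
    rw [Finset.sum_insert hi] at h ⊢
    rw [Finset.prod_insert hi, mul_assoc]
    have h1 := ih (fun j hj => hk j (Finset.mem_insert_of_mem hj))
      (fun j hj => hek j (Finset.mem_insert_of_mem hj)) (fun j hj => h' j (Finset.mem_insert_of_mem hj))
      (by omega)
    have h2 := SS_mul_mem P (hk i (Finset.mem_insert_self _ _)) (hek i (Finset.mem_insert_self _ _)) h1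
      (h' i (Finset.mem_insert_self _ _)) (by omega)
    have h3 : n + ∑ i ∈ s, k i * n' i + k i * n' i = n + (k i * n' i + ∑ i ∈ s, k i * n' i) := by ring
    rwa [h3] at h2

end

end Cfsg.Agent.H505.S4536.DC
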