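import Cfsg.Agent.H505.S4536.DC.Lab

/-!
# Sizes and periods
-/

set_option autoImplicit false

open scoped ComplexConjugate

namespace Cfsg.Agent.H505.S4536.DC

open Cfsg.Agent.H577.GLB.Std
open MvPolynomial Cfsg.Agent.H614 Cfsg.Agent.H614.GLn.RSt

variable {Q : ℤ} {M p : ℕ} [NeZero M]

theorem perZ_mul_dvd (a c : ZMod M) : perZ Q M (a * c) ∣ perZ Q M c := by
  rw [← pow_mul_eq_iff, mul_left_comm, (pow_mul_eq_iff _ c).2 dvd_rfl]

variable (Q M p) in
/-- the degree of the Adams operation -/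
noncomputable def kq (c : ZMod M) : ℕ := perZ Q M c / perZ Q M (pu M p * c)

theorem kq_mul (c : ZMod M) : kq Q M p c * perZ Q M (pu M p * c) = perZ Q M c :=
  Nat.div_mul_cancel (perZ_mul_dvd _ _)

theorem kq_pos (hQ : IsUnit (Q : ZMod M)) (c : ZMod M) : 0 < kq Q M p c := by
  have h1 := kq_mul (Q := Q) (p := p) c
  have h2 := perZ_pos hQ c
  rcases Nat.eq_zero_or_pos (kq Q M p c) with h | h
  · rw [h, zero_mul] at h1; omega
  · exact h

theorem eD_dvd_kq (hp : p.Prime) {c : ZMod M} (hc : ¬ PReg M p c) : eD Q M p (pu M p * c) ∣ kq Q M p c := by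
  have h1 : c - pu M p * c ≠ 0 := by
    intro h
    apply hc
    rw [pReg_iff hp]
    exact (sub_eq_zero.mp h).symm
  have h2 : pu M p * (c - pu M p * c) = 0 := by
    rw [mul_sub, pu_pu hp, sub_self]
  obtain ⟨j, hj⟩ := ((pu_spec hp).2.2.1 _).mpr h2
  have h3 : addOrderOf (c - pu M p * c) ∣ p ^ j := by
    apply addOrderOf_dvd_of_nsmul_eq_zero
    rw [nsmul_eq_mul, Nat.cast_pow]
    exact hj
  have h4 : addOrderOf (c - pu M p * c) ≠ 1 := fun h => h1 (AddMonoid.addOrderOf_eq_one_iff.mp h)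
  obtain ⟨i, _, hi⟩ := (Nat.dvd_prime_pow hp).mp h3
  have hi0 : i ≠ 0 := by
    rintro rfl
    exact h4 (by rw [hi, pow_zero])
  have h5 : p ∣ addOrderOf (c - pu M p * c) := by
    rw [hi]
    exact dvd_pow_self p hi0
  have h6 : (Q : ZMod M) ^ (perZ Q M c) * (c - pu M p * c) = c - pu M p * c := by
    rw [mul_sub, mul_left_comm, (pow_mul_eq_iff _ c).2 dvd_rfl]
  have h7 : (Q ^ (perZ Q M c) - 1 : ℤ) • (c - pu M p * c) = 0 := by
    rw [zsmul_eq_mul]
    push_cast
    rw [sub_mul, h6, one_mul, sub_self]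
  have h8 : ((addOrderOf (c - pu M p * c) : ℕ) : ℤ) ∣ Q ^ (perZ Q M c) - 1 :=
    addOrderOf_dvd_iff_zsmul_eq_zero.mpr h7
  have h9 : ((p : ℕ) : ℤ) ∣ Q ^ (perZ Q M c) - 1 := (Int.natCast_dvd_natCast.mpr h5).trans h8
  have h10 : (Q : ZMod p) ^ (perZ Q M c) = 1 := by
    have := (ZMod.intCast_zmod_eq_zero_iff_dvd (Q ^ (perZ Q M c) - 1) p).mpr h9
    push_cast at this
    exact sub_eq_zero.mp this
  apply orderOf_dvd_of_pow_eq_one
  rw [← pow_mul, mul_comm, kq_mul, h10]

open Classical in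
variable (M p) in
/-- the multiplicity of a label, as a sum over the labels with given `p'`-part -/
noncomputable def Sf {m : ℕ} (t : ZMod M → Fin m → ℕ) (δ : ZMod M) : ℕ :=
  ∑ c ∈ Finset.univ.filter (fun c : ZMod M => pu M p * c = δ), bsz (t c)

open Classical in
theorem sfun_eq (hp : p.Prime) {m : ℕ} (t : ZMod M → Fin m → ℕ) {δ : ZMod M} (hδ : PReg M p δ) :
    sfun M p t δ = Sf M p t δ := by
  rw [sfun, Sf]
  refine Finset.sum_congr ?_ fun _ _ => rfl
  ext c
  simp only [Finset.mem_filter, Finset.mem_univ, true_and]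
  exact pPow_sub_iff hp hδ

open Classical in
theorem Sf_same (hQ : IsUnit (Q : ZMod M)) {m : ℕ} {t : ZMod M → Fin m → ℕ}
    (ht : ∀ c, t ((Q : ZMod M) * c) = t c) {δ δ' : ZMod M} (h : SameZ Q M δ δ') :
    Sf M p t δ' = Sf M p t δ := by
  obtain ⟨j, rfl⟩ := h
  rw [Sf, Sf]
  symm
  refine Finset.sum_nbij (fun c => (Q : ZMod M) ^ j * c) ?_ ?_ ?_ ?_
  · intro c hc
    rw [Finset.mem_filter] at hc ⊢
    refine ⟨Finset.mem_univ _, ?_⟩
    rw [mul_left_comm, hc.2]
  · intro c _ c' _ h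
    exact (hQ.pow j).mul_left_cancel h
  · intro c hc
    rw [Finset.mem_coe, Finset.mem_filter] at hc
    obtain ⟨w, hw⟩ := hQ.pow j
    refine ⟨(↑w⁻¹ : ZMod M) * c, ?_, ?_⟩
    · rw [Finset.mem_coe, Finset.mem_filter]
      refine ⟨Finset.mem_univ _, ?_⟩
      rw [mul_left_comm, hc.2, ← hw, ← mul_assoc, Units.inv_mul, one_mul]
    · beta_reduce
      rw [← hw, ← mul_assoc, Units.mul_inv, one_mul]
  · intro c _
    rw [t_same ht ⟨j, rfl⟩]

open Classical in
theorem sum_Sf {m : ℕ} (t : ZMod M → Fin m → ℕ) : ∑ δ, Sf M p t δ = ∑ c, bsz (t c) := by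
  simp only [Sf]
  exact Finset.sum_fiberwise Finset.univ (fun c => pu M p * c) (fun c => bsz (t c))

theorem Sf_le {m : ℕ} (t : ZMod M → Fin m → ℕ) (δ : ZMod M) : Sf M p t δ ≤ ∑ c, bsz (t c) := by
  rw [← sum_Sf (p := p)]
  exact Finset.single_le_sum (f := fun δ => Sf M p t δ) (fun _ _ => Nat.zero_le _) (Finset.mem_univ δ)

theorem Sf_eq_zero (hp : p.Prime) {m : ℕ} (t : ZMod M → Fin m → ℕ) {δ : ZMod M} (h : pu M p * δ ≠ δ) :
    Sf M p t δ = 0 := by
  classical
  rw [Sf]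
  refine Finset.sum_eq_zero fun c hc => ?_
  rw [Finset.mem_filter] at hc
  exact absurd (by rw [← hc.2, pu_pu hp]) h

open Classical in
theorem sum_kq (hQ : IsUnit (Q : ZMod M)) {m : ℕ} {t : ZMod M → Fin m → ℕ}
    (ht : ∀ c, t ((Q : ZMod M) * c) = t c) {δ : ZMod M} (hδ : canon Q M δ = δ) :
    ∑ c ∈ (repsZ Q M).filter (fun c => canon Q M (pu M p * c) = δ), kq Q M p c * bsz (t c) = Sf M p t δ := by
  have hper := perZ_pos hQ δ
  apply Nat.eq_of_mul_eq_mul_left hper
  have h1 := sum_orbit hQ (fun c' => if canon Q M (pu M p * c') = δ then bsz (t c') else 0) (by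
    intro c c' h
    beta_reduce
    rw [t_same ht h, (canon_eq_iff hQ).mpr (same_mul (pu M p) h)])
  have h2 := sum_orbit hQ (fun δ' => if canon Q M δ' = δ then Sf M p t δ' else 0) (by
    intro c c' h
    beta_reduce
    rw [Sf_same hQ ht h, (canon_eq_iff hQ).mpr h])
  have h3 : ∑ c', (if canon Q M (pu M p * c') = δ then bsz (t c') else 0) =
      ∑ δ', (if canon Q M δ' = δ then Sf M p t δ' else 0) := by
    rw [← Finset.sum_fiberwise Finset.univ (fun c => pu M p * c)]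
    refine Finset.sum_congr rfl fun δ' _ => ?_
    rw [Sf]
    by_cases h : canon Q M δ' = δ
    · rw [if_pos h]
      refine Finset.sum_congr rfl fun c hc => ?_
      rw [(Finset.mem_filter.mp hc).2, if_pos h]
    · rw [if_neg h]
      refine Finset.sum_eq_zero fun c hc => ?_
      rw [(Finset.mem_filter.mp hc).2, if_neg h]
  rw [h1, h2] at h3
  have h4 : ∑ c ∈ repsZ Q M, perZ Q M c * (if canon Q M c = δ then Sf M p t c else 0) =
      perZ Q M δ * Sf M p t δ := by
    rw [Finset.sum_eq_single δ]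
    · rw [if_pos hδ]
    · intro c hc hne
      rw [if_neg, mul_zero]
      rw [mem_repsZ.mp hc]
      exact hne
    · intro h
      exact absurd (mem_repsZ.mpr hδ) h
  have h5 : ∑ c ∈ repsZ Q M, perZ Q M c * (if canon Q M (pu M p * c) = δ then bsz (t c) else 0) =
      perZ Q M δ * ∑ c ∈ (repsZ Q M).filter (fun c => canon Q M (pu M p * c) = δ), kq Q M p c * bsz (t c) := by
    rw [Finset.mul_sum, Finset.sum_filter]
    refine Finset.sum_congr rfl fun c _ => ?_
    by_cases h : canon Q M (pu M p * c) = δ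
    · rw [if_pos h, if_pos h]
      have h6 : perZ Q M (pu M p * c) = perZ Q M δ := by
        apply perZ_of_same hQ
        rw [← h]
        exact sameZ_canon _
      rw [← kq_mul (Q := Q) (p := p) c, h6]
      ring
    · rw [if_neg h, if_neg h, mul_zero]
  rw [← h5, h3, h4]

end Cfsg.Agent.H505.S4536.DC
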