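import Cfsg.Agent.H505.S4536.DC.Tau
import Mathlib.Algebra.Algebra.Operations

/-!
# (D2'') the truncation of a Schur product is an integral combination of truncations of `p'`-labelled ones
-/

set_option autoImplicit false

open scoped ComplexConjugate

namespace Cfsg.Agent.H505.S4536.DC

open Cfsg.Agent.H577.GLB.Std
open MvPolynomial Cfsg.Agent.H614 Cfsg.Agent.H614.GLn Cfsg.Agent.H614.GLn.RSt

theorem prod_mem_span {ι A : Type*} [CommRing A] (s : Finset ι) (X : ι → Set A) (x : ι → A)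
    (h : ∀ i ∈ s, x i ∈ Submodule.span ℤ (X i)) :
    ∏ i ∈ s, x i ∈ Submodule.span ℤ {y | ∃ g : ι → A, (∀ i ∈ s, g i ∈ X i) ∧ y = ∏ i ∈ s, g i} := by
  classical
  induction s using Finset.induction_on with
  | empty =>
    apply Submodule.subset_span
    exact ⟨fun _ => 0, fun i hi => absurd hi (Finset.notMem_empty i), rfl⟩
  | insert a s ha ih =>
    rw [Finset.prod_insert ha]
    have h1 := Submodule.mul_mem_mul (h a (Finset.mem_insert_self a s))
      (ih fun i hi => h i (Finset.mem_insert_of_mem hi))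
    rw [Submodule.span_mul_span] at h1
    refine Submodule.span_mono ?_ h1
    rintro y ⟨y1, hy1, y2, ⟨g, hg, rfl⟩, rfl⟩
    refine ⟨Function.update g a y1, ?_, ?_⟩
    · intro i hi
      rcases Finset.mem_insert.mp hi with rfl | hi'
      · rw [Function.update_self]; exact hy1
      · rw [Function.update_of_ne (by rintro rfl; exact ha hi')]; exact hg i hi'
    · rw [Finset.prod_insert ha, Function.update_self]
      congr 1
      refine Finset.prod_congr rfl fun i hi => ?_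
      rw [Function.update_of_ne (by rintro rfl; exact ha hi)]

section

variable {Q : ℤ} {M p : ℕ} [NeZero M]

variable (Q M p) in
open Classical in
/-- canonical `p'`-labels -/
noncomputable def Rp : Finset (ZMod M) := (repsZ Q M).filter fun δ => pu M p * δ = δ

theorem mem_Rp {δ : ZMod M} : δ ∈ Rp Q M p ↔ canon Q M δ = δ ∧ pu M p * δ = δ := by
  classical
  rw [Rp, Finset.mem_filter, mem_repsZ]

theorem canon_mem_Rp (hp : p.Prime) (hQ : IsUnit (Q : ZMod M)) (c : ZMod M) :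
    canon Q M (pu M p * c) ∈ Rp Q M p := by
  rw [mem_Rp]
  refine ⟨canon_canon hQ _, ?_⟩
  obtain ⟨j, hj⟩ := sameZ_canon (Q := Q) (pu M p * c)
  rw [hj, mul_left_comm, pu_pu hp]

theorem canon_mem_Rp' (hp : p.Prime) (hQ : IsUnit (Q : ZMod M)) {c : ZMod M} (hc : pu M p * c = c) :
    canon Q M c ∈ Rp Q M p := by
  have := canon_mem_Rp (p := p) hp hQ c
  rwa [hc] at this

theorem tauP_SchP {m : ℕ} (t : ZMod M → Fin m → ℕ) :
    tauP Q M p (SchP Q M t) = ∏ c ∈ repsZ Q M, tauP Q M p (Sch Q M c (t c)) := by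
  rw [SchP, map_prod]
  refine Finset.prod_congr ?_ fun _ _ => rfl
  ext c
  rw [mem_repsZ, Finset.mem_filter]
  simp

theorem eD_same (hQ : IsUnit (Q : ZMod M)) {c c' : ZMod M} (h : SameZ Q M c c') :
    eD Q M p c' = eD Q M p c := by
  rw [eD, eD, perZ_of_same hQ h]

variable (Q M p) in
/-- the truncated power sums -/
noncomputable def TT (δ : ZMod M) (j : ℕ) : RS M := tauP Q M p (Pw Q M j δ)

open Classical in
/-- the part of the product over one `p'`-label -/
theorem fibre_mem (hp : p.Prime) (hQ : IsUnit (Q : ZMod M)) {m n : ℕ} (hmn : n ≤ m) (t : LabZ Q M m n)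
    {δ : ZMod M} (hδ : δ ∈ Rp Q M p) :
    ∏ c ∈ (repsZ Q M).filter (fun c => canon Q M (pu M p * c) = δ), tauP Q M p (Sch Q M c (t.t c)) ∈
      Sp (TT Q M p δ) (eD Q M p δ) (Sf M p t.t δ) (t.t δ) := by
  rw [mem_Rp] at hδ
  obtain ⟨hδ1, hδ2⟩ := hδ
  have hδR : PReg M p δ := (pReg_iff hp δ).mpr hδ2
  have hmem : δ ∈ (repsZ Q M).filter (fun c => canon Q M (pu M p * c) = δ) := by
    rw [Finset.mem_filter, mem_repsZ]
    exact ⟨hδ1, by rw [hδ2, hδ1]⟩
  have hsum := sum_kq (p := p) hQ t.orb hδ1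
  rw [← Finset.add_sum_erase _ _ hmem, kq_of_pReg hp hQ hδR, one_mul] at hsum
  have hsame : ∀ c ∈ ((repsZ Q M).filter (fun c => canon Q M (pu M p * c) = δ)).erase δ,
      SameZ Q M δ (pu M p * c) := by
    intro c hc
    have h1 := (Finset.mem_filter.mp (Finset.mem_of_mem_erase hc)).2
    rw [← hδ1] at h1
    exact SameZ.symm' hQ ((canon_eq_iff hQ).mp h1)
  have hv : tauP Q M p (Sch Q M δ (t.t δ)) ∈ Sp (TT Q M p δ) (eD Q M p δ) (bsz (t.t δ)) (t.t δ) := by
    rw [tauP_Sch_pReg]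
    exact SS_mem_Sp _ (SameCol.refl _ _)
  rw [← Finset.prod_erase_mul _ _ hmem]
  have hprod : ∏ c ∈ ((repsZ Q M).filter (fun c => canon Q M (pu M p * c) = δ)).erase δ,
      tauP Q M p (Sch Q M c (t.t c)) =
      ∏ c ∈ ((repsZ Q M).filter (fun c => canon Q M (pu M p * c) = δ)).erase δ,
        SS (fun j => TT Q M p δ (kq Q M p c * j)) (bsz (t.t c)) (t.t c) := by
    refine Finset.prod_congr rfl fun c hc => ?_
    rw [tauP_Sch hp hQ]
    refine SS_congr _ _ fun j _ => ?_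
    rw [TT, Pw_same hQ _ (hsame c hc)]
  rw [hprod]
  have hfin := prod_SS_mul_mem (TT Q M p δ) hv
    (((repsZ Q M).filter (fun c => canon Q M (pu M p * c) = δ)).erase δ) (kq Q M p)
    (fun c _ => kq_pos hQ c) (fun c hc => ?_) (fun c => bsz (t.t c)) (fun c => t.t c)
    (fun c _ => bsz_eq (t.mono c)) ?_
  · rwa [hsum] at hfin
  · rw [← eD_same hQ (hsame c hc)]
    refine eD_dvd_kq hp fun hcR => ?_
    rw [pReg_iff hp] at hcR
    have h2 := Finset.mem_filter.mp (Finset.mem_of_mem_erase hc)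
    rw [hcR, mem_repsZ.mp h2.1] at h2
    exact Finset.ne_of_mem_erase hc h2.2
  · rw [hsum]
    refine (Sf_le t.t δ).trans ?_
    rw [t.sum]
    exact hmn

/-- the label of a family of tuples -/
theorem exists_label (hp : p.Prime) (hQ : IsUnit (Q : ZMod M)) {m n : ℕ} (t : LabZ Q M m n)
    (g : ZMod M → RS M)
    (hg : ∀ δ ∈ Rp Q M p, ∃ γ : Fin m → ℕ, StrictMono γ ∧
      ∑ i, γ i = Sf M p t.t δ + ∑ i : Fin m, (i : ℕ) ∧ SameCol (eD Q M p δ) γ (t.t δ) ∧
      g δ = SS (TT Q M p δ) (Sf M p t.t δ) γ) :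
    ∃ t' : LabZ Q M m n, POnly M p t'.t ∧ SameFam Q M p t.t t'.t ∧
      ∏ δ ∈ Rp Q M p, g δ = tauP Q M p (SchP Q M t'.t) := by
  classical
  choose! γ hγ1 hγ2 hγ3 hγ4 using hg
  let t' : ZMod M → Fin m → ℕ := fun c => if pu M p * c = c then γ (canon Q M c) else fun i => (i : ℕ)
  have ht'1 : ∀ c, pu M p * c = c → t' c = γ (canon Q M c) := fun c hc => if_pos hc
  have ht'2 : ∀ c, pu M p * c ≠ c → t' c = fun i : Fin m => (i : ℕ) := fun c hc => if_neg hc
  have hbsz : ∀ c, bsz (t' c) = Sf M p t.t c := by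
    intro c
    by_cases hc : pu M p * c = c
    · rw [ht'1 c hc, bsz_of_sum (hγ2 _ (canon_mem_Rp' hp hQ hc)),
        Sf_same hQ t.orb (sameZ_canon (Q := Q) c)]
    · rw [ht'2 c hc, bsz_id, Sf_eq_zero hp _ hc]
  refine ⟨⟨t', ?_, ?_, ?_⟩, ?_, ?_, ?_⟩
  · intro c
    by_cases hc : pu M p * c = c
    · rw [ht'1 c hc]; exact hγ1 _ (canon_mem_Rp' hp hQ hc)
    · rw [ht'2 c hc]; exact strictMono_id m
  · intro c
    have h1 : pu M p * ((Q : ZMod M) * c) = (Q : ZMod M) * c ↔ pu M p * c = c := by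
      rw [mul_left_comm]
      exact hQ.mul_right_inj
    by_cases hc : pu M p * c = c
    · rw [ht'1 c hc, ht'1 _ (h1.mpr hc), canon_mul hQ]
    · rw [ht'2 c hc, ht'2 _ (fun h => hc (h1.mp h))]
  · rw [Finset.sum_congr rfl fun c _ => hbsz c, sum_Sf, t.sum]
  · intro c hc
    show bsz (t' c) = 0
    rw [hbsz]
    exact Sf_eq_zero hp _ fun h => hc ((pReg_iff hp c).mpr h)
  · intro δ hδ
    have hδ' := (pReg_iff hp δ).mp hδ
    constructor
    · rw [sfun_eq hp _ hδ, sfun_eq hp _ hδ]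
      show Sf M p t.t δ = Sf M p t' δ
      rw [Sf.eq_def (t := t'), Finset.sum_congr rfl fun c _ => hbsz c, Finset.sum_eq_single δ]
      · intro c hc hne
        apply Sf_eq_zero hp
        intro h
        apply hne
        rw [← h, (Finset.mem_filter.mp hc).2]
      · intro h
        exact (h (Finset.mem_filter.mpr ⟨Finset.mem_univ _, hδ'⟩)).elim
    · show SameCol (eD Q M p δ) (t.t δ) (t' δ)
      rw [ht'1 δ hδ']
      have h2 := hγ3 _ (canon_mem_Rp' hp hQ hδ')
      rw [eD_same hQ (sameZ_canon (Q := Q) δ), t_same t.orb (sameZ_canon (Q := Q) δ)] at h2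
      exact h2.symm
  · show _ = tauP Q M p (SchP Q M t')
    rw [tauP_SchP, Rp]
    rw [← Finset.prod_filter_of_ne (s := repsZ Q M) (p := fun δ => pu M p * δ = δ)]
    · refine Finset.prod_congr rfl fun δ hδ => ?_
      have hδR : δ ∈ Rp Q M p := hδ
      rw [Finset.mem_filter, mem_repsZ] at hδ
      rw [hγ4 δ hδR, ht'1 δ hδ.2, hδ.1, tauP_Sch_pReg, bsz_of_sum (hγ2 δ hδR)]
      rfl
    · intro c _ hne
      by_contra hc
      apply hne
      rw [ht'2 c hc, Sch_eq_SS, bsz_id, SS_id, map_one]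

/-- (D2'') -/
theorem tau_mem_span (hp : p.Prime) (hQ : IsUnit (Q : ZMod M)) {m n : ℕ} (hmn : n ≤ m)
    (t : LabZ Q M m n) :
    tauP Q M p (SchP Q M t.t) ∈ Submodule.span ℤ {x : RS M | ∃ t' : LabZ Q M m n,
      POnly M p t'.t ∧ SameFam Q M p t.t t'.t ∧ x = tauP Q M p (SchP Q M t'.t)} := by
  classical
  rw [tauP_SchP, ← Finset.prod_fiberwise_of_maps_to (s := repsZ Q M) (t := Rp Q M p)
    (g := fun c => canon Q M (pu M p * c)) (fun c _ => canon_mem_Rp hp hQ c)]
  have h1 := prod_mem_span (Rp Q M p) _ _ fun δ hδ => fibre_mem hp hQ hmn t hδ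
  refine Submodule.span_mono ?_ h1
  rintro y ⟨g, hg, rfl⟩
  obtain ⟨t', h2, h3, h4⟩ := exists_label hp hQ t g hg
  exact ⟨t', h2, h3, h4⟩

end

end Cfsg.Agent.H505.S4536.DC
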