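import Cfsg.Agent.H505.S4536.DC.Size
import Cfsg.Agent.H505.S4536.DC.Pieri

/-!
# The truncation on variables, power sums and Schur functions
-/

set_option autoImplicit false

open scoped ComplexConjugate

namespace Cfsg.Agent.H505.S4536.DC

open Cfsg.Agent.H577.GLB.Std
open MvPolynomial Cfsg.Agent.H614 Cfsg.Agent.H614.GLn Cfsg.Agent.H614.GLn.RSt

section SS

variable {m : ℕ} {A A' : Type*} [CommRing A] [Algebra ℂ A] [CommRing A'] [Algebra ℂ A']

theorem map_SS (φ : A →ₐ[ℂ] A') (P : ℕ → A) (n : ℕ) (β : Fin m → ℕ) :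
    φ (SS P n β) = SS (fun j => φ (P j)) n β := by
  have h := ZV_map φ.toLinearMap n (fun s => (FM s β : ℂ) • (s.map P).prod)
  rw [SS, SS]
  refine h.trans (ZV_congr fun s _ _ => ?_)
  rw [map_smul]
  congr 1
  rw [AlgHom.toLinearMap_apply, map_multiset_prod, Multiset.map_map]
  rfl

theorem SS_congr {P P' : ℕ → A} (n : ℕ) (β : Fin m → ℕ) (h : ∀ j, 0 < j → P j = P' j) :
    SS P n β = SS P' n β := by
  rw [SS, SS]
  refine ZV_congr fun s _ hs => ?_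
  rw [Multiset.map_congr rfl fun j hj => h j (hs j hj)]

end SS

theorem bsz_eq {m : ℕ} {β : Fin m → ℕ} (hβ : StrictMono β) :
    ∑ i, β i = bsz β + ∑ i : Fin m, (i : ℕ) := by
  have h1 : ∑ i : Fin m, (i : ℕ) ≤ ∑ i, β i := Finset.sum_le_sum fun i _ => strictMono_le hβ i
  rw [bsz]
  omega

theorem bsz_of_sum {m n : ℕ} {β : Fin m → ℕ} (hβ : ∑ i, β i = n + ∑ i : Fin m, (i : ℕ)) : bsz β = n := by
  rw [bsz, hβ, Nat.add_sub_cancel]

theorem bsz_id (m : ℕ) : bsz (fun i : Fin m => (i : ℕ)) = 0 := by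
  rw [bsz, Nat.sub_self]

theorem strictMono_id (m : ℕ) : StrictMono (fun i : Fin m => (i : ℕ)) := fun _ _ h => h

theorem eq_id_of_bsz {m : ℕ} {β : Fin m → ℕ} (hβ : StrictMono β) (h : bsz β = 0) :
    β = fun i : Fin m => (i : ℕ) := by
  have h1 := bsz_eq hβ
  rw [h, zero_add] at h1
  have h2 := (Finset.sum_eq_sum_iff_of_le (fun i _ => strictMono_le hβ i)).mp h1.symm
  funext i
  exact (h2 i (Finset.mem_univ i)).symm

section

variable {Q : ℤ} {M p : ℕ} [NeZero M]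

omit [NeZero M] in
theorem Sch_eq_SS {m : ℕ} (c : ZMod M) (β : Fin m → ℕ) :
    Sch Q M c β = SS (fun j => Pw Q M j c) (bsz β) β := by
  classical
  rw [Sch, SS, ZV]
  refine Finset.sum_congr rfl fun ν _ => ?_
  rw [smul_smul]
  congr 1
  rw [div_eq_mul_inv, mul_comm]
  congr 2
  have h0 : H614.zz ν.parts = ∏ i ∈ ν.parts.toFinset, i ^ (ν.parts.count i) * (ν.parts.count i).factorial := by
    rw [H614.zz, Finset.prod_multiset_count, ← Finset.prod_mul_distrib]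
  refine Eq.trans ?_ (congrArg (fun x : ℕ => (x : ℂ)) h0).symm
  push_cast
  rfl

theorem SS_id {m : ℕ} {A : Type*} [CommRing A] [Algebra ℂ A] (P : ℕ → A) :
    SS P 0 (fun i : Fin m => (i : ℕ)) = 1 := by
  rw [SS_zero_eq]
  have h1 : vac (fun i : Fin m => (i : ℕ)) = 1 := by
    unfold vac
    rw [Finset.sum_eq_single 1]
    · simp
    · intro σ _ hσ
      rw [if_neg]
      intro h
      apply hσ
      ext i
      have := congrFun h i
      simpa using this.symm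
    · intro h; exact absurd (Finset.mem_univ _) h
  rw [h1]; simp

open Classical in
theorem Eta_mul_mem (hp : p.Prime) (k j : ℕ) {η : ZMod M} (h : η ∈ Eta Q M p k) :
    (Q : ZMod M) ^ j * η ∈ Eta Q M p k := by
  rw [mem_Eta hp] at h ⊢
  refine ⟨torZ_mul _ h.1, ?_⟩
  rw [mul_left_comm, h.2, mul_zero]

theorem zero_mem_Eta (hp : p.Prime) (k : ℕ) : (0 : ZMod M) ∈ Eta Q M p k := by
  rw [mem_Eta hp]
  exact ⟨by rw [TorZ, mul_zero], mul_zero _⟩

theorem card_Eta_pos (hp : p.Prime) (k : ℕ) : 0 < (Eta Q M p k).card :=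
  Finset.card_pos.mpr ⟨0, zero_mem_Eta hp k⟩

theorem card_Eta_ne (hp : p.Prime) (k : ℕ) : ((Eta Q M p k).card : ℂ) ≠ 0 :=
  Nat.cast_ne_zero.mpr (card_Eta_pos hp k).ne'

theorem tauP_X (v : Var M) : tauP Q M p (X v) =
    ((Eta Q M p v.1).card : ℂ)⁻¹ • ∑ η ∈ Eta Q M p v.1, rv Q M v.1 (v.2 + η) := by
  rw [tauP, aeval_X]

/-- the truncation of a variable -/
theorem tauP_rv (hp : p.Prime) (hQ : IsUnit (Q : ZMod M)) {k : ℕ} {c : ZMod M} (hk : 0 < k)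
    (h : TorZ Q M k c) : tauP Q M p (rv Q M k c) =
      ((Eta Q M p k).card : ℂ)⁻¹ • ∑ η ∈ Eta Q M p k, rv Q M k (c + η) := by
  rw [rv_of_tor hk h, tauP_X]
  dsimp only
  congr 1
  obtain ⟨j, hj⟩ := sameZ_canon (Q := Q) c
  rw [hj]
  symm
  refine Finset.sum_nbij (fun η => (Q : ZMod M) ^ j * η) (fun η hη => Eta_mul_mem hp k j hη) ?_ ?_ ?_
  · intro η _ η' _ h'
    exact (hQ.pow j).mul_left_cancel h'
  · intro η hη
    obtain ⟨w, hw⟩ := hQ.pow j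
    have hη' : η ∈ Eta Q M p k := hη
    rw [mem_Eta hp] at hη'
    refine ⟨(↑w⁻¹ : ZMod M) * η, ?_, ?_⟩
    · rw [Finset.mem_coe, mem_Eta hp]
      refine ⟨torZ_mul _ hη'.1, ?_⟩
      rw [mul_left_comm, hη'.2, mul_zero]
    · beta_reduce
      rw [← hw, ← mul_assoc, Units.mul_inv, one_mul]
  · intro η _
    rw [← mul_add, rv_pow_mul hQ]

theorem sub_mem_Eta (hp : p.Prime) {k : ℕ} {c : ZMod M} (h : TorZ Q M k c) :
    c - pu M p * c ∈ Eta Q M p k := by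
  rw [mem_Eta hp]
  exact ⟨torZ_sub h (torZ_mul _ h), by rw [mul_sub, pu_pu hp, sub_self]⟩

theorem add_mem_Eta (hp : p.Prime) {k : ℕ} {η η' : ZMod M} (h : η ∈ Eta Q M p k) (h' : η' ∈ Eta Q M p k) :
    η + η' ∈ Eta Q M p k := by
  rw [mem_Eta hp] at h h' ⊢
  exact ⟨torZ_add h.1 h'.1, by rw [mul_add, h.2, h'.2, add_zero]⟩

theorem diff_mem_Eta (hp : p.Prime) {k : ℕ} {η η' : ZMod M} (h : η ∈ Eta Q M p k) (h' : η' ∈ Eta Q M p k) :
    η - η' ∈ Eta Q M p k := by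
  rw [mem_Eta hp] at h h' ⊢
  exact ⟨torZ_sub h.1 h'.1, by rw [mul_sub, h.2, h'.2, sub_zero]⟩

theorem sum_rv_add (hp : p.Prime) {k : ℕ} {c η0 : ZMod M} (h : η0 ∈ Eta Q M p k) :
    ∑ η ∈ Eta Q M p k, rv Q M k (c + η0 + η) = ∑ η ∈ Eta Q M p k, rv Q M k (c + η) := by
  refine Finset.sum_bij' (fun η _ => η0 + η) (fun η _ => η - η0) ?_ ?_ ?_ ?_ ?_
  · intro η hη; exact add_mem_Eta hp h hη
  · intro η hη; exact diff_mem_Eta hp hη h
  · intro η _; ring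
  · intro η _; ring
  · intro η _; rw [add_assoc]

theorem tauP_rv_pu (hp : p.Prime) (hQ : IsUnit (Q : ZMod M)) {k : ℕ} {c : ZMod M} (hk : 0 < k)
    (h : TorZ Q M k c) : tauP Q M p (rv Q M k c) = tauP Q M p (rv Q M k (pu M p * c)) := by
  rw [tauP_rv hp hQ hk h, tauP_rv hp hQ hk (torZ_mul _ h), ← sum_rv_add (c := pu M p * c) hp (sub_mem_Eta hp h)]
  have h1 : pu M p * c + (c - pu M p * c) = c := by ring
  rw [h1]

theorem tauP_Pw (hp : p.Prime) (hQ : IsUnit (Q : ZMod M)) (j : ℕ) (c : ZMod M) :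
    tauP Q M p (Pw Q M j c) = tauP Q M p (Pw Q M (kq Q M p c * j) (pu M p * c)) := by
  rcases Nat.eq_zero_or_pos j with rfl | hj
  · rw [Pw, Pw, rv, rv, if_neg (by simp), if_neg (by simp)]
  · rw [Pw, Pw, tauP_rv_pu hp hQ (Nat.mul_pos hj (perZ_pos hQ c)) ((torZ_iff _ c).2 (dvd_mul_left _ _))]
    congr 2
    rw [mul_comm (kq Q M p c) j, mul_assoc, kq_mul]

theorem tauP_Sch (hp : p.Prime) (hQ : IsUnit (Q : ZMod M)) {m : ℕ} (c : ZMod M) (β : Fin m → ℕ) :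
    tauP Q M p (Sch Q M c β) =
      SS (fun j => tauP Q M p (Pw Q M (kq Q M p c * j) (pu M p * c))) (bsz β) β := by
  rw [Sch_eq_SS, map_SS]
  exact SS_congr _ _ fun j _ => tauP_Pw hp hQ j c

theorem kq_of_pReg (hp : p.Prime) (hQ : IsUnit (Q : ZMod M)) {c : ZMod M} (hc : PReg M p c) :
    kq Q M p c = 1 := by
  rw [kq, (pReg_iff hp c).mp hc]
  exact Nat.div_self (perZ_pos hQ c)

theorem tauP_Sch_pReg {m : ℕ} (c : ZMod M) (β : Fin m → ℕ) :
    tauP Q M p (Sch Q M c β) = SS (fun j => tauP Q M p (Pw Q M j c)) (bsz β) β := by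
  rw [Sch_eq_SS, map_SS]

end

end Cfsg.Agent.H505.S4536.DC
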